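import Cfsg.Agent.H69.Af.Clif
import Cfsg.Agent.H830.B57.Str

/-!
# S5717, task D1: normal subgroups of primitive linear groups are homogeneous (helper594)
-/

set_option autoImplicit false

open Subgroup

namespace Cfsg.Agent.H594.B57

open Cfsg.Agent.H830.B57 Cfsg.Agent.H69.Af Cfsg.Agent.H192.Af Cfsg.Agent.H717.FieldOf

variable {p : ℕ} [Fact p.Prime] {V : Type} [AddCommGroup V] [Module (ZMod p) V]

theorem p_smul {W : Type*} [AddCommGroup W] [Module (ZMod p) W] (w : W) : p • w = 0 := by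
  rw [← Nat.cast_smul_eq_nsmul (ZMod p), CharP.cast_eq_zero, zero_smul]

theorem exists_rho {G : Type*} [Group G] {U : Type*} [AddCommGroup U] [Module (ZMod p) U] (f : G → U → U)
    (h0 : ∀ g a b, f g (a + b) = f g a + f g b) (h1 : ∀ a, f 1 a = a) (hm : ∀ g h a, f (g * h) a = f g (f h a)) :
    ∃ ρ : G →* (U ≃ₗ[ZMod p] U), ∀ g a, ρ g a = f g a := by
  let F : G → (U ≃ₗ[ZMod p] U) := fun g =>
    { (AddMonoidHom.toZModLinearMap p (AddMonoidHom.mk' (f g) (h0 g)) : U →ₗ[ZMod p] U) with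
      invFun := f g⁻¹
      left_inv := fun s => by
        change f g⁻¹ (f g s) = s
        rw [← hm, inv_mul_cancel, h1]
      right_inv := fun s => by
        change f g (f g⁻¹ s) = s
        rw [← hm, mul_inv_cancel, h1] }
  have hF : ∀ g a, F g a = f g a := fun g a => rfl
  refine ⟨MonoidHom.mk' F fun a b => LinearEquiv.ext fun s => ?_, fun g a => rfl⟩
  rw [LinearEquiv.mul_apply, hF, hF, hF, hm]

theorem homDec_of_equiv (Y : Subgroup (V ≃ₗ[ZMod p] V)) {R : Type} [Ring R] [Module R V] {S : Type}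
    [AddCommGroup S] [Module R S] [Module (ZMod p) S] [IsSimpleModule R S] (M : ℕ) (e : V ≃ₗ[R] (Fin M → S))
    (r : Y →* R) (hr : ∀ (y : Y) (v : V), r y • v = (y : V ≃ₗ[ZMod p] V) v)
    (hsub : ∀ W : AddSubgroup S, (∀ (y : Y), ∀ w ∈ W, r y • w ∈ W) → ∀ (c : R), ∀ w ∈ W, c • w ∈ W) :
    ∃ (ρ : Y →* (S ≃ₗ[ZMod p] S)) (φ : V ≃ₗ[ZMod p] (Fin M → S)), HomDec Y M ρ φ := by
  obtain ⟨ρ, hρ⟩ := exists_rho (p := p) (G := Y) (U := S) (fun y s => r y • s) (fun y a b => smul_add (r y) a b)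
      (fun s => by rw [map_one, one_smul]) (fun a b s => by rw [map_mul, mul_smul])
  let φ : V ≃ₗ[ZMod p] (Fin M → S) :=
    { (AddMonoidHom.toZModLinearMap p (e : V →+ (Fin M → S)) : V →ₗ[ZMod p] (Fin M → S)) with
      invFun := e.symm
      left_inv := fun v => e.symm_apply_apply v
      right_inv := fun v => e.apply_symm_apply v }
  refine ⟨ρ, φ, ⟨?_, ?_, ?_⟩⟩
  · intro y v j
    rw [hρ]
    change e ((y : V ≃ₗ[ZMod p] V) v) j = r y • (e v j)
    rw [← hr, map_smul]
    rfl
  · intro W hW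
    let W' : Submodule R S :=
      { carrier := (W : Set S)
        zero_mem' := W.zero_mem
        add_mem' := fun ha hb => W.add_mem ha hb
        smul_mem' := fun c s hs => hsub W.toAddSubgroup (fun y w hw => by
          have := hW y w hw
          rwa [hρ] at this) c s hs }
    rcases eq_bot_or_eq_top W' with h | h
    · left
      rw [Submodule.eq_bot_iff] at h ⊢
      exact fun x hx => h x hx
    · right
      rw [Submodule.eq_top_iff'] at h ⊢
      exact fun x => h x
  · have : Nontrivial S := IsSimpleModule.nontrivial R S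
    exact exists_ne (0 : S)

/-- D1 (Clifford): normal subgroups of primitive linear groups are homogeneous -/
theorem homDec_of_normal [Finite V] (X : Subgroup (V ≃ₗ[ZMod p] V)) (hX : PrimLin X)
    (Y : Subgroup (V ≃ₗ[ZMod p] V)) (hYX : Y ≤ X) (hY : ∀ x ∈ X, ∀ y ∈ Y, x * y * x⁻¹ ∈ Y) :
    ∃ (U : Type) (_ : AddCommGroup U) (_ : Module (ZMod p) U) (M : ℕ)
      (ρ : Y →* (U ≃ₗ[ZMod p] U)) (φ : V ≃ₗ[ZMod p] (Fin M → U)), HomDec Y M ρ φ := by
  classical
  have : Nontrivial V := by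
    obtain ⟨v, hv⟩ := hX.nt
    exact ⟨v, 0, hv⟩
  have hfinE : Finite (V ≃ₗ[ZMod p] V) :=
    Finite.of_injective (fun g : V ≃ₗ[ZMod p] V => (g : V → V)) DFunLike.coe_injective
  let K : Subgroup X := Y.subgroupOf X
  have hK : K.Normal := ⟨fun k hk x => mem_subgroupOf.2 (hY x x.2 k (mem_subgroupOf.1 hk))⟩
  have hfaith : FaithfulSMul X V := ⟨fun {a b} h => Subtype.ext (LinearEquiv.ext fun v => h v)⟩
  have hirr : ∀ U : AddSubgroup V, (∀ (h : X), ∀ w ∈ U, h • w ∈ U) → U = ⊥ ∨ U = ⊤ := by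
    intro U hU
    rcases hX.irr (AddSubgroup.toZModSubmodule p U) (fun g hg v hv => hU ⟨g, hg⟩ v hv) with h | h
    · left
      exact (AddSubgroup.toZModSubmodule p (M := V)).injective (h.trans (OrderIso.map_bot _).symm)
    · right
      exact (AddSubgroup.toZModSubmodule p (M := V)).injective (h.trans (OrderIso.map_top _).symm)
  rcases homog_or_blocks (Fact.out : p.Prime) (fun w : V => p_smul (p := p) w) hirr with hh | ⟨k, U, hk, hind, htop, hne, hperm, -⟩
  · obtain ⟨hss, hiso⟩ := hh K hK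
    have hfS : Module.Finite (KA V K) V := Module.Finite.of_finite
    obtain ⟨S, hS⟩ := IsSemisimpleModule.exists_simple_submodule (KA V K) V
    obtain ⟨M, ⟨e⟩⟩ := (hiso S).linearEquiv_fun
    have hpS : ∀ x : S, p • x = 0 := fun x => Subtype.ext (p_smul (p := p) (x : V))
    let iM : Module (ZMod p) S := AddCommGroup.zmodModule hpS
    have hyK : ∀ y : Y, (⟨y, hYX y.2⟩ : X) ∈ K := fun y => mem_subgroupOf.2 y.2
    let r : Y →* KA V K :=
      { toFun := fun y => ⟨dl V (⟨y, hYX y.2⟩ : X), dl_mem K (hyK y)⟩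
        map_one' := Subtype.ext (map_one (dl V))
        map_mul' := fun a b => Subtype.ext (map_mul (dl V) (⟨a, hYX a.2⟩ : X) ⟨b, hYX b.2⟩) }
    obtain ⟨ρ, φ, h⟩ := homDec_of_equiv (p := p) (R := KA V K) Y M e r (fun y v => rfl) (by
      intro W hW c
      obtain ⟨c, hc⟩ := c
      unfold KA at hc
      refine Subring.closure_induction (p := fun c (hc : c ∈ Subring.closure (dl V '' (K : Set X))) =>
        ∀ s : S, s ∈ W → (⟨c, hc⟩ : KA V K) • s ∈ W) ?_ ?_ ?_ ?_ ?_ ?_ hc
      · rintro _ ⟨a, ha, rfl⟩ s hs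
        exact hW ⟨(a : V ≃ₗ[ZMod p] V), mem_subgroupOf.1 ha⟩ s hs
      · intro s _
        have : (⟨0, zero_mem _⟩ : KA V K) • s = 0 := zero_smul (KA V K) s
        rw [this]
        exact W.zero_mem
      · intro s hs
        have : (⟨1, one_mem _⟩ : KA V K) • s = s := one_smul (KA V K) s
        rw [this]
        exact hs
      · intro x y hx hy h1 h2 s hs
        have : (⟨x + y, add_mem hx hy⟩ : KA V K) • s = (⟨x, hx⟩ : KA V K) • s + (⟨y, hy⟩ : KA V K) • s :=
          add_smul (⟨x, hx⟩ : KA V K) ⟨y, hy⟩ s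
        rw [this]
        exact W.add_mem (h1 s hs) (h2 s hs)
      · intro x hx h1 s hs
        have : (⟨-x, neg_mem hx⟩ : KA V K) • s = -((⟨x, hx⟩ : KA V K) • s) := neg_smul (⟨x, hx⟩ : KA V K) s
        rw [this]
        exact W.neg_mem (h1 s hs)
      · intro x y hx hy h1 h2 s hs
        have : (⟨x * y, mul_mem hx hy⟩ : KA V K) • s = (⟨x, hx⟩ : KA V K) • ((⟨y, hy⟩ : KA V K) • s) :=
          mul_smul (⟨x, hx⟩ : KA V K) ⟨y, hy⟩ s
        rw [this]
        exact h1 _ (h2 s hs))
    exact ⟨S, Submodule.addCommGroup S, iM, M, ρ, φ, h⟩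
  · exfalso
    have hss := hX.prim (Fin k) (fun i => AddSubgroup.toZModSubmodule p (U i)) ?_ ?_ ?_ ?_
    · have h1 := Fin.subsingleton_iff_le_one.1 hss
      omega
    · exact hind.map_orderIso (AddSubgroup.toZModSubmodule p)
    · have := congrArg (AddSubgroup.toZModSubmodule p) htop
      rw [OrderIso.map_iSup, OrderIso.map_top] at this
      exact this
    · intro i h
      exact hne i ((AddSubgroup.toZModSubmodule p (M := V)).injective (h.trans (OrderIso.map_bot _).symm))
    · intro g hg i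
      obtain ⟨j, hj⟩ := hperm ⟨g, hg⟩ i
      obtain ⟨l, hl⟩ := hperm ⟨g, hg⟩⁻¹ j
      have hil : i = l := by
        by_contra hne'
        apply hne i
        rw [eq_bot_iff]
        intro w hw
        have h1 : w ∈ U l := by
          have := hl _ (hj w hw)
          rwa [inv_smul_smul] at this
        have h2 := (hind i).mono_right (le_iSup₂_of_le (f := fun j (_ : j ≠ i) => U j) l (Ne.symm hne') le_rfl)
        exact AddSubgroup.disjoint_def.1 h2 hw h1
      subst hil
      refine ⟨j, fun v => ⟨fun hv => hj v hv, fun hv => ?_⟩⟩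
      have := hl _ (show (⟨g, hg⟩ : X) • v ∈ U j from hv)
      rwa [inv_smul_smul] at this

end Cfsg.Agent.H594.B57
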